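import Groth.Agent.Lib.FlatH4.InjCrit
import Groth.Agent.Lib.McCoy3.HilbertBurch
import Groth.Agent.Lib.McCoy3.HilbertBurchConverse
import Mathlib.RingTheory.Nakayama
import Mathlib.RingTheory.Flat.Tensor
import Mathlib.RingTheory.Flat.Equalizer
import Mathlib.RingTheory.Flat.Stability
import Mathlib.RingTheory.Jacobson.Ideal

/-!
# Deformations of Hilbert–Burch resolutions

If a complex `A^k → A^n → A` of free modules over a flat algebra over a ring with nilpotent maximal ideal `m`
is exact (with injective first map) modulo `m`, it is so, with flat cokernel.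
-/

set_option autoImplicit false

universe u

open scoped Matrix
open TensorProduct

namespace Groth.Agent.HBDef3

section modules

variable {C : Type u} [CommRing C] {N M P : Type u} [AddCommGroup N] [Module C N] [AddCommGroup M] [Module C M]
  [AddCommGroup P] [Module C P]

theorem mem_smul_of_mem_of_flat_quot (a : Ideal C) (K : Submodule C P) [Module.Flat C (P ⧸ K)] {x : P}
    (hx : x ∈ K) (h : x ∈ a • (⊤ : Submodule C P)) : x ∈ a • K := by
  have hinj := LinearMap.lTensor_injective_of_exact_of_flat K.mkQ K.mkQ_surjective K.subtype K.injective_subtype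
    (LinearMap.exact_subtype_mkQ K) (C ⧸ a)
  have h0 : (1 : C ⧸ a) ⊗ₜ[C] (⟨x, hx⟩ : K) = 0 := hinj (by
    rw [map_zero, LinearMap.lTensor_tmul]
    exact (FlatH4.one_tmul_eq_zero_iff a x).2 h)
  have h1 := Submodule.mem_map_of_mem (f := K.subtype) ((FlatH4.one_tmul_eq_zero_iff a _).1 h0)
  rwa [Submodule.map_smul'', Submodule.map_top, Submodule.range_subtype] at h1

theorem flat_ker {f : M →ₗ[C] P} (hf : Function.Surjective f) [Module.Flat C M] [Module.Flat C P] :
    Module.Flat C (LinearMap.ker f) := by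
  rw [Module.Flat.iff_rTensor_preserves_injective_linearMap]
  intro X Y _ _ _ _ i hi
  have hinj : ∀ (L : Type u) [AddCommGroup L] [Module C L],
      Function.Injective ((LinearMap.ker f).subtype.lTensor L) := fun L _ _ =>
    LinearMap.lTensor_injective_of_exact_of_flat f hf _ (Submodule.injective_subtype _)
      (LinearMap.exact_subtype_ker_map f) L
  intro a b hab
  apply hinj X
  apply Module.Flat.rTensor_preserves_injective_linearMap (M := M) i hi
  rw [← LinearMap.comp_apply, ← LinearMap.comp_apply, LinearMap.rTensor_comp_lTensor,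
    ← LinearMap.lTensor_comp_rTensor, LinearMap.comp_apply, LinearMap.comp_apply, hab]

/-- Injectivity modulo a nilpotent maximal ideal of a map to a flat module. -/
theorem injective_flat_of_mod (m : Ideal C) [m.IsMaximal] (hm : IsNilpotent m) [Module.Flat C M] (u : N →ₗ[C] M)
    (hu : ∀ x, u x ∈ m • (⊤ : Submodule C M) → x ∈ m • (⊤ : Submodule C N)) :
    Function.Injective u ∧ Module.Flat C (M ⧸ LinearMap.range u) := by
  have hu0 : Function.Injective (u.lTensor (C ⧸ m)) := by
    rw [injective_iff_map_eq_zero]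
    intro z hz
    obtain ⟨v, rfl⟩ : ∃ v, (1 : C ⧸ m) ⊗ₜ[C] v = z := by
      clear hz
      induction z using TensorProduct.induction_on with
      | zero => exact ⟨0, TensorProduct.tmul_zero _ _⟩
      | tmul c v =>
        obtain ⟨c, rfl⟩ := Ideal.Quotient.mk_surjective c
        refine ⟨c • v, ?_⟩
        rw [← TensorProduct.smul_tmul, Algebra.smul_def, mul_one]
        rfl
      | add a b ha hb =>
        obtain ⟨v, rfl⟩ := ha
        obtain ⟨w, rfl⟩ := hb
        exact ⟨v + w, TensorProduct.tmul_add _ _ _⟩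
    rw [LinearMap.lTensor_tmul, FlatH4.one_tmul_eq_zero_iff] at hz
    rw [FlatH4.one_tmul_eq_zero_iff]
    exact hu v hz
  have key : ∀ (I : Ideal C) (v : N), u v ∈ I • (⊤ : Submodule C M) → v ∈ I • (⊤ : Submodule C N) := by
    intro I v hv
    refine FlatH4.mem_smul_of_map_mem_smul_of_separated m u
      (fun V _ _ hV => FlatH4.lTensor_injective_of_isMaximal m u hu0 V hV) I (fun w hw => ?_) v hv
    obtain ⟨n, hn⟩ := hm
    simpa [hn] using hw n
  exact ⟨FlatH4.injective_of_map_mem_smul u key, FlatH4.flat_quotient_range u key⟩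

/-- A complex of flat modules which is exact modulo a nilpotent maximal ideal is exact, with flat cokernel. -/
theorem exact_of_mod (m : Ideal C) [m.IsMaximal] (hm : IsNilpotent m) [Module.Flat C M] [Module.Flat C P]
    (u : N →ₗ[C] M) (g : M →ₗ[C] P) (hgu : ∀ x, g (u x) = 0)
    (hu : ∀ x, u x ∈ m • (⊤ : Submodule C M) → x ∈ m • (⊤ : Submodule C N))
    (hg : ∀ z, g z ∈ m • (⊤ : Submodule C P) → z ∈ LinearMap.range u ⊔ m • (⊤ : Submodule C M)) :
    Function.Injective u ∧ LinearMap.range u = LinearMap.ker g ∧ Module.Flat C (P ⧸ LinearMap.range g) := by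
  obtain ⟨hinj, hflat⟩ := injective_flat_of_mod m hm u hu
  have hle : LinearMap.range u ≤ LinearMap.ker g := by
    rintro _ ⟨x, rfl⟩; exact LinearMap.mem_ker.2 (hgu x)
  let gb := (LinearMap.range u).liftQ g hle
  obtain ⟨hinj', hflat'⟩ := injective_flat_of_mod m hm gb (fun q hq => by
    obtain ⟨z, rfl⟩ := Submodule.mkQ_surjective _ q
    obtain ⟨y, hy, w, hw, rfl⟩ := Submodule.mem_sup.1 (hg z hq)
    rw [map_add, Submodule.mkQ_apply, (Submodule.Quotient.mk_eq_zero _).2 hy, zero_add]
    have h1 := Submodule.mem_map_of_mem (f := (LinearMap.range u).mkQ) hw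
    rwa [Submodule.map_smul'', Submodule.map_top, Submodule.range_mkQ] at h1)
  refine ⟨hinj, le_antisymm hle fun z hz => (Submodule.Quotient.mk_eq_zero _).1 (hinj' ?_), ?_⟩
  · rw [map_zero]; exact LinearMap.mem_ker.1 hz
  · rwa [Submodule.range_liftQ] at hflat'

end modules

section rings

variable {C : Type u} [CommRing C] {A : Type u} [CommRing A] [Algebra C A]

theorem mem_smul_top_pi_iff {ι : Type} [Fintype ι] (a : Ideal C) (x : ι → A) :
    x ∈ a • (⊤ : Submodule C (ι → A)) ↔ ∀ i, x i ∈ a.map (algebraMap C A) := by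
  classical
  have e : ∀ y : A, y ∈ a • (⊤ : Submodule C A) ↔ y ∈ a.map (algebraMap C A) := fun y => by
    rw [Ideal.smul_top_eq_map]; rfl
  constructor
  · intro hx i
    have h1 := Submodule.mem_map_of_mem (f := (LinearMap.proj i : (ι → A) →ₗ[C] A)) hx
    rw [Submodule.map_smul''] at h1
    exact (e _).1 (Submodule.smul_mono le_rfl le_top h1)
  · intro hx
    rw [← Finset.univ_sum_single x]
    refine Submodule.sum_mem _ fun i _ => ?_
    have h1 := Submodule.mem_map_of_mem (f := LinearMap.single C (fun _ : ι => A) i) ((e _).2 (hx i))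
    rw [Submodule.map_smul''] at h1
    exact Submodule.smul_mono le_rfl le_top h1

/-- `φ` followed by `f` is exact, with injective first map, modulo the ideal `M`. -/
def Cond {R : Type u} [CommRing R] {n k : ℕ} (φ : Matrix (Fin n) (Fin k) R) (f : Fin n → R) (M : Ideal R) : Prop :=
  (∀ x, (∀ i, (φ *ᵥ x) i ∈ M) → ∀ j, x j ∈ M) ∧
    ∀ z : Fin n → R, ∑ i, z i * f i ∈ M → ∃ v, ∀ i, z i - (φ *ᵥ v) i ∈ M

theorem Cond.of_map {R B : Type u} [CommRing R] [CommRing B] (π : R →+* B) (hπ : Function.Surjective π) {n k : ℕ}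
    {φ : Matrix (Fin n) (Fin k) R} {f : Fin n → R} {M : Ideal R} (hM : RingHom.ker π ≤ M)
    (h : Cond (φ.map π) (π ∘ f) (M.map π)) : Cond φ f M := by
  have e : ∀ y, π y ∈ M.map π ↔ y ∈ M := fun y => by
    rw [← Ideal.mem_comap, Ideal.comap_map_of_surjective π hπ]
    exact ⟨fun hy => sup_le le_rfl hM hy, fun hy => Ideal.mem_sup_left hy⟩
  refine ⟨fun x hx j => (e _).1 (h.1 (π ∘ x) (fun i => ?_) j), fun z hz => ?_⟩
  · rw [← RingHom.map_mulVec]
    exact (e _).2 (hx i)
  · obtain ⟨v, hv⟩ := h.2 (π ∘ z) (by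
      simpa [map_sum] using (e _).2 hz)
    choose v' hv' using fun j => hπ (v j)
    refine ⟨v', fun i => (e _).1 ?_⟩
    rw [map_sub, RingHom.map_mulVec, show π ∘ v' = v from funext hv']
    exact hv i

theorem range_restrictScalars_linearCombination {n : ℕ} (f : Fin n → A) :
    LinearMap.range ((Fintype.linearCombination A f).restrictScalars C) =
      (Ideal.span (Set.range f)).restrictScalars C := by
  rw [LinearMap.range_restrictScalars, Fintype.range_linearCombination]

/-- An exact sequence with flat cokernel stays exact modulo any ideal of the base. -/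
theorem cond_of_flat {n k : ℕ} (φ : Matrix (Fin n) (Fin k) A) (f : Fin n → A)
    (hinj : Function.Injective φ.mulVecLin)
    (hex : LinearMap.range φ.mulVecLin = LinearMap.ker (Fintype.linearCombination A f))
    [Module.Flat C A] [Module.Flat C (A ⧸ Ideal.span (Set.range f))] (a : Ideal C) :
    Cond φ f (a.map (algebraMap C A)) := by
  let g : (Fin n → A) →ₗ[C] A := (Fintype.linearCombination A f).restrictScalars C
  let u : (Fin k → A) →ₗ[C] (Fin n → A) := φ.mulVecLin.restrictScalars C
  have : Module.Flat C (A ⧸ LinearMap.range g) :=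
    Module.Flat.of_linearEquiv
      ((Submodule.quotEquivOfEq _ _ (range_restrictScalars_linearCombination f)).trans
        (Submodule.Quotient.restrictScalarsEquiv C (Ideal.span (Set.range f))))
  have : Module.Flat C (LinearMap.ker (LinearMap.range g).mkQ) := flat_ker (Submodule.mkQ_surjective _)
  have : Module.Flat C ((Fin n → A) ⧸ LinearMap.ker g) :=
    Module.Flat.of_linearEquiv
      (g.quotKerEquivRange.trans (LinearEquiv.ofEq _ _ (Submodule.ker_mkQ _).symm))
  refine ⟨fun x hx => (mem_smul_top_pi_iff a x).1 ?_, fun z hz => ?_⟩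
  · have h1 : u x ∈ LinearMap.ker g := LinearMap.mem_ker.2 (LinearMap.mem_ker.1 (hex.le ⟨x, rfl⟩))
    have h2 := mem_smul_of_mem_of_flat_quot a _ h1 ((mem_smul_top_pi_iff a _).2 hx)
    rw [show LinearMap.ker g = Submodule.map u ⊤ by
      rw [Submodule.map_top]
      exact SetLike.ext fun y => (SetLike.ext_iff.1 hex y).symm, ← Submodule.map_smul''] at h2
    obtain ⟨x', hx', e⟩ := h2
    rwa [← hinj e]
  · have hz' : g z ∈ a • (⊤ : Submodule C A) := by
      rw [Ideal.smul_top_eq_map]
      simpa [g, Fintype.linearCombination_apply] using hz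
    have h2 := mem_smul_of_mem_of_flat_quot a _ (LinearMap.mem_range_self g z) hz'
    rw [LinearMap.range_eq_map, ← Submodule.map_smul''] at h2
    obtain ⟨z', hz', e⟩ := h2
    obtain ⟨v, hv⟩ := hex.ge (show z - z' ∈ LinearMap.ker (Fintype.linearCombination A f) from
      LinearMap.mem_ker.2 (by rw [map_sub, sub_eq_zero]; exact e.symm))
    refine ⟨v, fun i => ?_⟩
    have : (φ *ᵥ v) i = z i - z' i := congrFun hv i
    rw [this, sub_sub_cancel]
    exact (mem_smul_top_pi_iff a z').1 hz' i

/-- Exactness and flatness from exactness modulo a nilpotent maximal ideal. -/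
theorem exact_of_cond (m : Ideal C) [m.IsMaximal] (hm : IsNilpotent m) [Module.Flat C A] {n k : ℕ}
    (φ : Matrix (Fin n) (Fin k) A) (f : Fin n → A) (h0 : ∀ v, ∑ i, f i * (φ *ᵥ v) i = 0)
    (hc : Cond φ f (m.map (algebraMap C A))) :
    Function.Injective φ.mulVecLin ∧
      LinearMap.range φ.mulVecLin = LinearMap.ker (Fintype.linearCombination A f) ∧
      Module.Flat C (A ⧸ Ideal.span (Set.range f)) := by
  let g : (Fin n → A) →ₗ[C] A := (Fintype.linearCombination A f).restrictScalars C
  let u : (Fin k → A) →ₗ[C] (Fin n → A) := φ.mulVecLin.restrictScalars C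
  have : Module.Flat C (Fin n → A) := Module.Flat.trans C A (Fin n → A)
  obtain ⟨h1, h2, h3⟩ := exact_of_mod m hm u g (fun x => by
      rw [← h0 x]
      simp [g, u, Fintype.linearCombination_apply, mul_comm])
    (fun x hx => (mem_smul_top_pi_iff m x).2 (hc.1 x ((mem_smul_top_pi_iff m _).1 hx)))
    (fun z hz => by
      rw [Ideal.smul_top_eq_map] at hz
      obtain ⟨v, hv⟩ := hc.2 z (by simpa [g, Fintype.linearCombination_apply] using hz)
      rw [show z = u v + (z - u v) by abel]
      exact Submodule.add_mem_sup (LinearMap.mem_range_self u v) ((mem_smul_top_pi_iff m _).2 fun i => hv i))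
  refine ⟨h1, SetLike.ext fun y => SetLike.ext_iff.1 h2 y, ?_⟩
  exact Module.Flat.of_linearEquiv
    ((Submodule.quotEquivOfEq _ _ (range_restrictScalars_linearCombination f)).trans
        (Submodule.Quotient.restrictScalarsEquiv C (Ideal.span (Set.range f)))).symm

theorem flat_quot_map (J : Ideal C) [Module.Flat C A] : Module.Flat (C ⧸ J) (A ⧸ J.map (algebraMap C A)) :=
  Module.Flat.of_linearEquiv (Algebra.TensorProduct.quotIdealMapEquivQuotTensor A J).toLinearEquiv

end rings

section lift

variable {C : Type u} [CommRing C] {A : Type u} [CommRing A] [Algebra C A]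

theorem map_signedMinor {B : Type u} [CommRing B] (π : A →+* B) {r : ℕ} (φ : Matrix (Fin (r + 1)) (Fin r) A) (i) :
    McCoy3.signedMinor (φ.map π) i = π (McCoy3.signedMinor φ i) := by
  simp [McCoy3.signedMinor, Matrix.submatrix_map, RingHom.map_det]

theorem le_jacobson_bot_of_isNilpotent {I : Ideal A} (h : IsNilpotent I) : I ≤ (⊥ : Ideal A).jacobson := by
  obtain ⟨n, hn⟩ := h
  intro x hx
  refine Ideal.radical_le_jacobson ⟨n, ?_⟩
  have := Ideal.pow_mem_pow hx n
  rwa [hn] at this

/-- Lifting a Hilbert–Burch resolution along a nilpotent thickening. -/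
theorem exists_lift [IsNoetherianRing A] [Module.Flat C A] (m : Ideal C) [m.IsMaximal] (hm : IsNilpotent m)
    (J : Ideal C) (hJ : J ≤ m) {B : Type u} [CommRing B] (π : A →+* B) (hπ : Function.Surjective π)
    (hker : RingHom.ker π = J.map (algebraMap C A)) (I : Ideal A) [Module.Flat C (A ⧸ I)] {r : ℕ}
    (φ₀ : Matrix (Fin (r + 1)) (Fin r) B) (hinj : Function.Injective φ₀.mulVecLin)
    (hex : LinearMap.range φ₀.mulVecLin = LinearMap.ker (Fintype.linearCombination B (McCoy3.signedMinor φ₀)))
    (hI : I.map π = Ideal.span (Set.range (McCoy3.signedMinor φ₀)))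
    (hc : Cond φ₀ (McCoy3.signedMinor φ₀) ((m.map (algebraMap C A)).map π)) :
    ∃ φ : Matrix (Fin (r + 1)) (Fin r) A, φ.map π = φ₀ ∧ I = Ideal.span (Set.range (McCoy3.signedMinor φ)) ∧
      Function.Injective φ.mulVecLin ∧
      LinearMap.range φ.mulVecLin = LinearMap.ker (Fintype.linearCombination A (McCoy3.signedMinor φ)) := by
  classical
  let Δ₀ := McCoy3.signedMinor φ₀
  let P := J.map (algebraMap C A)
  have hPm : P ≤ m.map (algebraMap C A) := Ideal.map_mono hJ
  have hPn : IsNilpotent P := by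
    obtain ⟨n, hn⟩ := hm
    exact ⟨n, by rw [← Ideal.map_pow]; exact le_bot_iff.1 ((Ideal.map_mono (Ideal.pow_right_mono hJ n)).trans (by rw [hn]; simp))⟩
  choose g hgI hg using fun i => (Ideal.mem_map_iff_of_surjective π hπ).1
    (show Δ₀ i ∈ I.map π from hI.ge (Ideal.subset_span ⟨i, rfl⟩))
  -- `I ⊓ JA = JA * I` by flatness
  have hIP : ∀ x ∈ I, x ∈ P → x ∈ P * I := by
    intro x hxI hxP
    have : Module.Flat C (A ⧸ I.restrictScalars C) :=
      Module.Flat.of_linearEquiv (Submodule.Quotient.restrictScalarsEquiv C I)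
    have h1 := mem_smul_of_mem_of_flat_quot J (I.restrictScalars C) hxI (by rw [Ideal.smul_top_eq_map]; exact hxP)
    refine Submodule.smul_induction_on h1 (fun c hc y hy => ?_) fun a b ha hb => add_mem ha hb
    rw [Algebra.smul_def]
    exact Ideal.mul_mem_mul (Ideal.mem_map_of_mem _ hc) hy
  have hspan : I = Ideal.span (Set.range g) := by
    refine le_antisymm ?_ (Ideal.span_le.2 (by rintro _ ⟨i, rfl⟩; exact hgI i))
    refine Submodule.le_of_le_smul_of_le_jacobson_bot (IsNoetherian.noetherian I)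
      (le_jacobson_bot_of_isNilpotent hPn) fun x hx => ?_
    obtain ⟨c, hc⟩ := (Submodule.mem_span_range_iff_exists_fun B).1 (hI.le (Ideal.mem_map_of_mem π hx))
    choose c' hc' using fun i => hπ (c i)
    have hy : ∑ i, c' i * g i ∈ Ideal.span (Set.range g) :=
      Submodule.sum_mem _ fun i _ => Ideal.mul_mem_left _ _ (Ideal.subset_span ⟨i, rfl⟩)
    rw [show x = ∑ i, c' i * g i + (x - ∑ i, c' i * g i) by abel]
    refine Submodule.add_mem_sup hy ?_
    rw [smul_eq_mul]
    refine hIP _ (sub_mem hx (Submodule.sum_mem _ fun i _ => Ideal.mul_mem_left _ _ (hgI i))) (hker.le ?_)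
    rw [RingHom.mem_ker, map_sub, sub_eq_zero, ← hc, map_sum]
    exact Finset.sum_congr rfl fun i _ => by rw [map_mul, hc', hg, smul_eq_mul]
  -- lift the relations
  have hcol : ∀ j : Fin r, ∃ w : Fin (r + 1) → A, (∀ i, π (w i) = φ₀ i j) ∧ ∑ i, g i * w i = 0 := by
    intro j
    choose w hw using fun i => hπ (φ₀ i j)
    have h1 : ∑ i, g i * w i ∈ P * I := hIP _ (Submodule.sum_mem _ fun i _ => Ideal.mul_mem_right _ _ (hgI i))
      (hker.le (by
        rw [RingHom.mem_ker, map_sum, ← McCoy3.sum_signedMinor_mul φ₀ j]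
        exact Finset.sum_congr rfl fun i _ => by rw [map_mul, hw, hg]))
    rw [hspan, ← smul_eq_mul, Submodule.mem_ideal_smul_span_iff_exists_sum] at h1
    obtain ⟨z, hz, hzs⟩ := h1
    refine ⟨fun i => w i - z i, fun i => by rw [map_sub, hw, RingHom.mem_ker.1 (hker.ge (hz i)), sub_zero], ?_⟩
    rw [Finsupp.sum_fintype _ _ (fun i => zero_smul A (g i))] at hzs
    simp only [mul_sub, Finset.sum_sub_distrib, sub_eq_zero, ← hzs, smul_eq_mul]
    exact Finset.sum_congr rfl fun i _ => mul_comm _ _
  choose w hw hw0 using hcol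
  let φ : Matrix (Fin (r + 1)) (Fin r) A := Matrix.of fun i j => w j i
  have hφ : φ.map π = φ₀ := by ext i j; exact hw j i
  have hgz : ∀ v, ∑ i, g i * (φ *ᵥ v) i = 0 := by
    intro v
    simp only [Matrix.mulVec, dotProduct, Finset.mul_sum, ← mul_assoc, φ, Matrix.of_apply]
    rw [Finset.sum_comm]
    simp [← Finset.sum_mul, hw0]
  have hkm : RingHom.ker π ≤ m.map (algebraMap C A) := hker.trans_le hPm
  obtain ⟨hφi, hφg, -⟩ := exact_of_cond m hm φ g hgz
    (Cond.of_map π hπ hkm (by rw [hφ, show π ∘ g = Δ₀ from funext hg]; exact hc))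
  obtain ⟨-, hφΔ, -⟩ := exact_of_cond m hm φ (McCoy3.signedMinor φ) (McCoy3.sum_signedMinor_mulVec φ)
    (Cond.of_map π hπ hkm (by
      rw [hφ, show π ∘ McCoy3.signedMinor φ = Δ₀ from funext fun i => by
        show π _ = _; rw [← map_signedMinor, hφ]]
      exact hc))
  refine ⟨φ, hφ, ?_, hφi, hφΔ⟩
  obtain ⟨a, -, ha⟩ := McCoy3.exists_factor hφi hφg.symm
  rw [Fintype.range_linearCombination, McCoy3.minorIdeal_eq_span] at ha
  change Ideal.span (Set.range g) = _ at ha
  suffices IsUnit a by rw [hspan, ha, Ideal.span_singleton_eq_top.2 this, Ideal.top_mul]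
  -- `a` is a unit, since its image fixes the ideal of minors of `φ₀`
  haveI : IsNoetherianRing B := isNoetherianRing_of_surjective A B π hπ
  have h1 : Ideal.span (Set.range Δ₀) ≤ Ideal.span {π a} • Ideal.span (Set.range Δ₀) := by
    have := congrArg (Ideal.map π) ha
    rw [Ideal.map_mul, Ideal.map_span, Ideal.map_span, Ideal.map_span, Set.image_singleton, ← Set.range_comp,
      ← Set.range_comp, show π ∘ g = Δ₀ from funext hg,
      show π ∘ McCoy3.signedMinor φ = Δ₀ from funext fun i => by
        show π _ = _; rw [← map_signedMinor, hφ]] at this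
    exact this.le
  obtain ⟨e, he, he0⟩ := Submodule.exists_sub_one_mem_and_smul_eq_zero_of_fg_of_le_smul _ _
    (IsNoetherian.noetherian _) h1
  obtain ⟨x, -, hx, -, hxr, -⟩ := McCoy3.exists_pair φ₀ _ hinj hex.symm
  rw [McCoy3.minorIdeal_eq_span] at hx
  have e0 : e = 0 := mem_nonZeroDivisors_iff_right.1 hxr e (he0 x hx)
  rw [e0, zero_sub] at he
  have hu : IsUnit (π a) := by
    rw [← Ideal.span_singleton_eq_top, Ideal.eq_top_iff_one]
    simpa using neg_mem he
  obtain ⟨b, hb⟩ := hπ ↑hu.unit⁻¹
  have h2 : a * b - 1 ∈ P := hker.le (by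
    rw [RingHom.mem_ker, map_sub, map_mul, hb, IsUnit.mul_val_inv, map_one, sub_self])
  have h3 : IsUnit (a * b) := by
    have hn : IsNilpotent (a * b - 1) := by
      obtain ⟨n, hn⟩ := hPn
      exact ⟨n, by have := Ideal.pow_mem_pow h2 n; rwa [hn] at this⟩
    simpa using hn.isUnit_one_add
  exact isUnit_of_mul_isUnit_left h3

end lift

end Groth.Agent.HBDef3
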